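import Mathlib

/-!
# Evaluating a module action on finitely presented modules
-/

set_option autoImplicit false

universe u v' u' w

open CategoryTheory CategoryTheory.Limits

namespace Groth.Agent.FPFun

variable {A : Type u} [CommRing A] {B : Type u'} [Category.{v'} B] [Preadditive B] {K : B} (κ : A →+* End K)

/-- Morphisms out of `K`, an `A`-module through `κ`. -/
@[nolint unusedArguments]
def HomFrom (_κ : A →+* End K) (Y : B) : Type v' := K ⟶ Y

instance (Y : B) : AddCommGroup (HomFrom κ Y) := inferInstanceAs (AddCommGroup (K ⟶ Y))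

theorem kappa_comp (a b : A) : κ a ≫ κ b = κ (a * b) := by
  rw [mul_comm a b, map_mul]; rfl

instance (Y : B) : Module A (HomFrom κ Y) where
  smul a f := (κ a ≫ (f : K ⟶ Y) : K ⟶ Y)
  one_smul f := by
    show κ 1 ≫ (f : K ⟶ Y) = f
    rw [map_one]
    exact Category.id_comp _
  mul_smul a b f := by
    show κ (a * b) ≫ (f : K ⟶ Y) = κ a ≫ κ b ≫ (f : K ⟶ Y)
    rw [← Category.assoc, kappa_comp]
  smul_zero a := comp_zero
  smul_add a f g := Preadditive.comp_add _ _ _ _ _ _
  add_smul a b f := by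
    show κ (a + b) ≫ (f : K ⟶ Y) = κ a ≫ (f : K ⟶ Y) + κ b ≫ (f : K ⟶ Y)
    rw [map_add, Preadditive.add_comp]
  zero_smul f := by
    show κ 0 ≫ (f : K ⟶ Y) = (0 : K ⟶ Y)
    rw [map_zero]
    exact zero_comp

/-- Postcomposition. -/
def post {Y Y' : B} (h : Y ⟶ Y') : HomFrom κ Y →ₗ[A] HomFrom κ Y' where
  toFun f := ((f : K ⟶ Y) ≫ h : K ⟶ Y')
  map_add' f g := Preadditive.add_comp _ _ _ _ _ _
  map_smul' a f := Category.assoc _ _ _

theorem post_comp {Y Y' Y'' : B} (h : Y ⟶ Y') (h' : Y' ⟶ Y'') :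
    post κ (h ≫ h') = (post κ h').comp (post κ h) :=
  LinearMap.ext fun f => (Category.assoc (f : K ⟶ Y) h h').symm

theorem post_id (Y : B) : post κ (𝟙 Y) = LinearMap.id :=
  LinearMap.ext fun f => Category.comp_id (f : K ⟶ Y)

variable [HasFiniteBiproducts B] [HasCokernels B]

theorem exists_rep (M : Type w) [AddCommGroup M] [Module A M] [Module.FinitePresentation A M] :
    ∃ (X : B) (u : M →ₗ[A] HomFrom κ X),
      ∀ (Y : B) (g : M →ₗ[A] HomFrom κ Y), ∃! h : X ⟶ Y, (post κ h).comp u = g := by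
  classical
  obtain ⟨n, m, f, r, hf, hex⟩ := Module.FinitePresentation.exists_fin' A M
  let φ : (⨁ fun _ : Fin m => K) ⟶ (⨁ fun _ : Fin n => K) :=
    biproduct.desc fun j => ∑ i, κ (r (Pi.single j 1) i) ≫ biproduct.ι (fun _ : Fin n => K) i
  let ev : ∀ {Y : B}, (Fin n → (K ⟶ Y)) → ((Fin n → A) →ₗ[A] HomFrom κ Y) := fun {Y} t =>
    ∑ i, (LinearMap.proj i : (Fin n → A) →ₗ[A] A).smulRight (show HomFrom κ Y from t i)
  have hev : ∀ {Y : B} (t : Fin n → (K ⟶ Y)) (a : Fin n → A), (ev t a : K ⟶ Y) = ∑ i, κ (a i) ≫ t i := by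
    intro Y t a
    simp only [ev, LinearMap.sum_apply, LinearMap.smulRight_apply, LinearMap.proj_apply]
    rfl
  have hφ : ∀ {Y : B} (t : Fin n → (K ⟶ Y)),
      φ ≫ biproduct.desc t = 0 ↔ ∀ a, ev t (r a) = 0 := by
    intro Y t
    have key : ∀ j, biproduct.ι (fun _ : Fin m => K) j ≫ φ ≫ biproduct.desc t = ev t (r (Pi.single j 1)) := by
      intro j
      rw [hev, ← Category.assoc, biproduct.ι_desc, Preadditive.sum_comp]
      simp
    constructor
    · intro h a
      have h1 : (ev t).comp r = 0 := LinearMap.pi_ext' fun j => LinearMap.ext_ring <| by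
        show ev t (r (Pi.single j 1)) = 0
        rw [← key j, h, comp_zero]
        rfl
      exact LinearMap.congr_fun h1 a
    · intro h
      refine biproduct.hom_ext' _ _ fun j => ?_
      rw [key, h, comp_zero]
      rfl
  let π := cokernel.π φ
  let t₀ : Fin n → (K ⟶ cokernel φ) := fun i => biproduct.ι (fun _ : Fin n => K) i ≫ π
  have ht₀ : biproduct.desc t₀ = π := biproduct.hom_ext' _ _ fun i => biproduct.ι_desc _ _
  have hker : LinearMap.ker f ≤ LinearMap.ker (ev t₀) := fun a ha => by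
    obtain ⟨b, rfl⟩ := (hex a).1 ha
    exact (hφ t₀).1 (by rw [ht₀]; exact cokernel.condition φ) b
  let u : M →ₗ[A] HomFrom κ (cokernel φ) :=
    ((LinearMap.ker f).liftQ (ev t₀) hker).comp (f.quotKerEquivOfSurjective hf).symm.toLinearMap
  have hu : ∀ a, u (f a) = ev t₀ a := fun a => by
    have h1 : (f.quotKerEquivOfSurjective hf).symm (f a) = Submodule.Quotient.mk a := by
      rw [LinearEquiv.symm_apply_eq]; rfl
    simp [u, h1]
  refine ⟨cokernel φ, u, fun Y g => ?_⟩
  let t : Fin n → (K ⟶ Y) := fun i => (g (f (Pi.single i 1)) : K ⟶ Y)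
  have ht : ev t = g.comp f := LinearMap.pi_ext' fun i => LinearMap.ext_ring <| by
    show ev t (Pi.single i 1) = g (f (Pi.single i 1))
    refine (hev t _).trans ?_
    rw [Finset.sum_eq_single i]
    · simp only [Pi.single_eq_same, map_one]; exact Category.id_comp _
    · intro b _ hb; simp [Pi.single_eq_of_ne hb]
    · simp
  have hc : φ ≫ biproduct.desc t = 0 := (hφ t).2 fun a => by
    rw [ht, LinearMap.comp_apply, hex.apply_apply_eq_zero, map_zero]
  refine ⟨cokernel.desc φ (biproduct.desc t) hc, ?_, ?_⟩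
  · refine LinearMap.ext fun x => ?_
    obtain ⟨a, rfl⟩ := hf x
    show (u (f a) : K ⟶ cokernel φ) ≫ cokernel.desc φ _ hc = g (f a)
    rw [← LinearMap.comp_apply g f, ← ht, hu]
    show (ev t₀ a : K ⟶ cokernel φ) ≫ cokernel.desc φ _ hc = (ev t a : K ⟶ Y)
    rw [hev, hev, Preadditive.sum_comp]
    exact Finset.sum_congr rfl fun i _ => by simp [t₀, π]; rfl
  · intro h hh
    refine coequalizer.hom_ext (biproduct.hom_ext' _ _ fun i => ?_)
    show biproduct.ι _ i ≫ π ≫ h = biproduct.ι _ i ≫ π ≫ cokernel.desc φ _ hc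
    rw [cokernel.π_desc, biproduct.ι_desc]
    have h1 := LinearMap.congr_fun hh (f (Pi.single i 1))
    simp only [LinearMap.comp_apply, hu] at h1
    have h2 : (ev t₀ (Pi.single i 1) : K ⟶ cokernel φ) = t₀ i := by
      refine (hev t₀ _).trans ?_
      rw [Finset.sum_eq_single i]
      · simp only [Pi.single_eq_same, map_one]; exact Category.id_comp _
      · intro b _ hb; simp [Pi.single_eq_of_ne hb]
      · simp
    have h3 : (ev t₀ (Pi.single i 1) : K ⟶ cokernel φ) ≫ h = t i := h1
    rw [h2] at h3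
    rw [← h3, Category.assoc]

end Groth.Agent.FPFun
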