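import Groth.Agent.FPFun.Basic

/-!
# The right exact functor with a prescribed value
-/

set_option autoImplicit false

universe u v' u'

open CategoryTheory CategoryTheory.Limits

namespace Groth.Agent.FPFun

variable {A : Type u} [CommRing A] {B : Type u'} [Category.{v'} B] [Preadditive B] [HasFiniteBiproducts B]
  [HasCokernels B] {K : B} (κ : A →+* End K)

/-- Finitely presented modules. -/
abbrev FP (A : Type u) [CommRing A] :=
  ObjectProperty.FullSubcategory (fun M : ModuleCat.{u} A => Module.FinitePresentation A M)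

/-- The value. -/
noncomputable def obj (M : FP A) : B :=
  haveI := M.2
  (exists_rep κ M.obj).choose

/-- The universal map. -/
noncomputable def uni (M : FP A) : M.obj →ₗ[A] HomFrom κ (obj κ M) :=
  haveI := M.2
  (exists_rep κ M.obj).choose_spec.choose

theorem existsUnique_lift (M : FP A) (Y : B) (g : M.obj →ₗ[A] HomFrom κ Y) :
    ∃! h : obj κ M ⟶ Y, (post κ h).comp (uni κ M) = g :=
  haveI := M.2
  (exists_rep κ M.obj).choose_spec.choose_spec Y g

/-- The map out of the value. -/
noncomputable def lift (M : FP A) {Y : B} (g : M.obj →ₗ[A] HomFrom κ Y) : obj κ M ⟶ Y :=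
  (existsUnique_lift κ M Y g).choose

theorem lift_spec (M : FP A) {Y : B} (g : M.obj →ₗ[A] HomFrom κ Y) :
    (post κ (lift κ M g)).comp (uni κ M) = g :=
  (existsUnique_lift κ M Y g).choose_spec.1

theorem hom_ext {M : FP A} {Y : B} {h h' : obj κ M ⟶ Y}
    (e : (post κ h).comp (uni κ M) = (post κ h').comp (uni κ M)) : h = h' :=
  (existsUnique_lift κ M Y ((post κ h').comp (uni κ M))).unique e rfl

/-- The functor. -/
noncomputable def functor : FP A ⥤ B where
  obj M := obj κ M
  map {M N} g := lift κ M ((uni κ N).comp g.hom.hom)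
  map_id M := hom_ext κ (by rw [lift_spec, post_id]; rfl)
  map_comp {M N P} g g' := hom_ext κ (by
    rw [lift_spec, post_comp, LinearMap.comp_assoc, lift_spec, ← LinearMap.comp_assoc, lift_spec]
    rfl)

theorem map_spec {M N : FP A} (g : M ⟶ N) :
    (post κ ((functor κ).map g)).comp (uni κ M) = (uni κ N).comp g.hom.hom :=
  lift_spec κ M _

theorem post_map {M N : FP A} (g : M ⟶ N) {Y : B} (h : obj κ N ⟶ Y) :
    ((post κ h).comp (uni κ N)).comp g.hom.hom =
      (post κ ((functor κ).map g ≫ h : obj κ M ⟶ Y)).comp (uni κ M) := by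
  refine LinearMap.ext fun x => ?_
  have h1 : (uni κ N (g.hom.hom x) : K ⟶ obj κ N) =
      (uni κ M x : K ⟶ obj κ M) ≫ (functor κ).map g :=
    (LinearMap.congr_fun (map_spec κ g) x).symm
  show (uni κ N (g.hom.hom x) : K ⟶ obj κ N) ≫ h = (uni κ M x : K ⟶ obj κ M) ≫ _
  exact (congrArg (fun w => w ≫ h) h1).trans (Category.assoc _ _ _)

/-- The cocone on the quotient of the sum by the relations. -/
theorem exists_module_cocone {J : Type} [SmallCategory J] [FinCategory J] (D : J ⥤ FP A) :
    ∃ (s : Cocone D), ∀ {Z : Type v'} [AddCommGroup Z] [Module A Z]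
      (g : ∀ j, (D.obj j).obj →ₗ[A] Z), (∀ {j j'} (a : j ⟶ j'), (g j').comp (D.map a).hom.hom = g j) →
      ∃ γ : s.pt.obj →ₗ[A] Z, ∀ j, γ.comp (s.ι.app j).hom.hom = g j := by
  classical
  haveI : ∀ j, Module.FinitePresentation A (D.obj j).obj := fun j => (D.obj j).2
  let P : Type u := ∀ j, (D.obj j).obj
  let ι : ∀ j, (D.obj j).obj →ₗ[A] P := fun j => LinearMap.single A (fun j => ((D.obj j).obj : Type u)) j
  let rel : (Σ j j' : J, j ⟶ j') → Submodule A P := fun a =>
    LinearMap.range ((ι a.2.1).comp (D.map a.2.2).hom.hom - ι a.1)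
  let R : Submodule A P := ⨆ a, rel a
  have hR : R.FG := Submodule.fg_iSup _ fun a => by
    haveI : Module.Finite A (D.obj a.1).obj := inferInstance
    exact Module.Finite.iff_fg.1 (Module.Finite.range _)
  have hQ : Module.FinitePresentation A (P ⧸ R) :=
    Module.finitePresentation_of_surjective R.mkQ R.mkQ_surjective (by rwa [Submodule.ker_mkQ])
  let Q : FP A := ⟨ModuleCat.of A (P ⧸ R), hQ⟩
  let s : Cocone D :=
    { pt := Q
      ι :=
        { app := fun j => ObjectProperty.homMk (ModuleCat.ofHom (R.mkQ.comp (ι j)))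
          naturality := fun j j' a => by
            apply ObjectProperty.hom_ext
            apply ModuleCat.hom_ext
            refine LinearMap.ext fun x => ?_
            show R.mkQ (ι j' ((D.map a).hom.hom x)) = R.mkQ (ι j x)
            rw [Submodule.mkQ_apply, Submodule.mkQ_apply, Submodule.Quotient.eq]
            exact Submodule.mem_iSup_of_mem ⟨j, j', a⟩ ⟨x, rfl⟩ } }
  refine ⟨s, fun {Z} _ _ g hg => ?_⟩
  let γ₀ : P →ₗ[A] Z := ∑ j, (g j).comp (LinearMap.proj j)
  have hγ : ∀ j x, γ₀ (ι j x) = g j x := fun j x => by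
    simp only [γ₀, ι, LinearMap.sum_apply, LinearMap.comp_apply, LinearMap.proj_apply]
    rw [Finset.sum_eq_single j]
    · show g j ((Pi.single j x : P) j) = g j x
      rw [Pi.single_eq_same]
    · intro b _ hb
      show g b ((Pi.single j x : P) b) = 0
      rw [Pi.single_eq_of_ne hb, map_zero]
    · simp
  refine ⟨R.liftQ γ₀ (iSup_le fun a => ?_), fun j => LinearMap.ext fun x => hγ j x⟩
  rintro _ ⟨x, rfl⟩
  rw [LinearMap.mem_ker, LinearMap.sub_apply, map_sub, LinearMap.comp_apply, hγ, hγ, sub_eq_zero]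
  exact LinearMap.congr_fun (hg a.2.2) x

instance : PreservesFiniteColimits (functor κ) := by
  refine ⟨fun J _ _ => ⟨fun {D} => ⟨fun {c} hc => ?_⟩⟩⟩
  obtain ⟨s, hs⟩ := exists_module_cocone.{u, v'} D
  -- descend families of linear maps
  have hdesc : ∀ {Z : Type v'} [AddCommGroup Z] [Module A Z] (g : ∀ j, (D.obj j).obj →ₗ[A] Z),
      (∀ {j j'} (a : j ⟶ j'), (g j').comp (D.map a).hom.hom = g j) →
      ∃ γ : c.pt.obj →ₗ[A] Z, ∀ j, γ.comp (c.ι.app j).hom.hom = g j := by
    intro Z _ _ g hg
    obtain ⟨γ, hγ⟩ := hs g hg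
    refine ⟨γ.comp (hc.desc s).hom.hom, fun j => ?_⟩
    rw [← hγ j, ← hc.fac s j]
    rfl
  let ιc : ∀ j, (D.obj j).obj →ₗ[A] c.pt.obj := fun j => (c.ι.app j).hom.hom
  have hgen : (⨆ j, LinearMap.range (ιc j)) = ⊤ := by
    classical
    haveI : ∀ j, Module.FinitePresentation A (D.obj j).obj := fun j => (D.obj j).2
    haveI := c.pt.2
    let S : Submodule A c.pt.obj := ⨆ j, LinearMap.range (ιc j)
    have hS : S.FG := Submodule.fg_iSup _ fun j => Module.Finite.iff_fg.1 (Module.Finite.range _)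
    have hQ : Module.FinitePresentation A (c.pt.obj ⧸ S) :=
      Module.finitePresentation_of_surjective S.mkQ S.mkQ_surjective (by rwa [Submodule.ker_mkQ])
    let q : c.pt ⟶ (⟨ModuleCat.of A (c.pt.obj ⧸ S), hQ⟩ : FP A) := ObjectProperty.homMk (ModuleCat.ofHom S.mkQ)
    let z : c.pt ⟶ (⟨ModuleCat.of A (c.pt.obj ⧸ S), hQ⟩ : FP A) :=
      ObjectProperty.homMk (ModuleCat.ofHom (0 : c.pt.obj →ₗ[A] c.pt.obj ⧸ S))
    have hqz : q = z := hc.hom_ext fun j => by
      apply ObjectProperty.hom_ext
      apply ModuleCat.hom_ext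
      refine LinearMap.ext fun x => ?_
      show S.mkQ ((c.ι.app j).hom.hom x) = 0
      rw [Submodule.mkQ_apply, Submodule.Quotient.mk_eq_zero]
      exact Submodule.mem_iSup_of_mem j ⟨x, rfl⟩
    refine Submodule.eq_top_iff'.2 fun x => (Submodule.Quotient.mk_eq_zero S).1 ?_
    exact LinearMap.congr_fun (congrArg (fun φ : c.pt ⟶ _ => φ.hom.hom) hqz) x
  have key : ∀ (t : Cocone (D ⋙ functor κ)), ∃! h : (functor κ).obj c.pt ⟶ t.pt,
      ∀ j, (functor κ).map (c.ι.app j) ≫ h = t.ι.app j := by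
    intro t
    obtain ⟨γ, hγ⟩ := hdesc (Z := HomFrom κ t.pt)
      (fun j => (post κ (show obj κ (D.obj j) ⟶ t.pt from t.ι.app j)).comp (uni κ (D.obj j))) (fun {j j'} a => by
      exact (post_map κ (D.map a) _).trans (congrArg (fun w => (post κ w).comp (uni κ (D.obj j))) (t.w a)))
    have hiff : ∀ h : obj κ c.pt ⟶ t.pt, (∀ j, (functor κ).map (c.ι.app j) ≫ h = t.ι.app j) ↔
        ∀ j, ((post κ h).comp (uni κ c.pt)).comp (c.ι.app j).hom.hom =
          (post κ (t.ι.app j)).comp (uni κ (D.obj j)) := by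
      intro h
      refine forall_congr' fun j => ⟨fun e => ?_, fun e => hom_ext κ ?_⟩
      · exact (post_map κ (c.ι.app j) h).trans (congrArg (fun w => (post κ w).comp (uni κ (D.obj j))) e)
      · exact (post_map κ (c.ι.app j) h).symm.trans e
    refine ⟨lift κ c.pt γ, (hiff _).2 fun j => by rw [lift_spec]; exact hγ j, fun h hh => hom_ext κ ?_⟩
    rw [lift_spec]
    refine LinearMap.ext fun x => ?_
    have hx : x ∈ ⨆ j, LinearMap.range (ιc j) := by rw [hgen]; trivial
    induction hx using Submodule.iSup_induction' with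
    | mem j x hx =>
      obtain ⟨w, rfl⟩ := hx
      exact LinearMap.congr_fun (((hiff h).1 hh j).trans (hγ j).symm) w
    | zero => simp
    | add x y _ _ hx hy => rw [map_add, map_add, hx, hy]
  exact ⟨{ desc := fun t => (key t).choose
           fac := fun t j => (key t).choose_spec.1 j
           uniq := fun t m hm => (key t).choose_spec.2 m hm }⟩

/-- The module of rank one. -/
abbrev one (A : Type u) [CommRing A] : FP A := ⟨ModuleCat.of A A, inferInstanceAs (Module.FinitePresentation A A)⟩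

/-- The value at `A`. -/
noncomputable def oneIso : (functor κ).obj (one A) ≅ K where
  hom := lift κ (one A) ((LinearMap.id : A →ₗ[A] A).smulRight (show HomFrom κ K from 𝟙 K))
  inv := (uni κ (one A) (1 : A) : HomFrom κ (obj κ (one A)))
  hom_inv_id := hom_ext κ (LinearMap.ext_ring <| by
    have h := LinearMap.congr_fun (lift_spec κ (one A)
      ((LinearMap.id : A →ₗ[A] A).smulRight (show HomFrom κ K from 𝟙 K))) (1 : A)
    simp only [LinearMap.comp_apply, LinearMap.smulRight_apply, LinearMap.id_apply, one_smul] at h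
    have h' : (uni κ (one A) (1 : A) : K ⟶ obj κ (one A)) ≫ lift κ (one A)
        ((LinearMap.id : A →ₗ[A] A).smulRight (show HomFrom κ K from 𝟙 K)) = 𝟙 K := h
    show (uni κ (one A) (1 : A) : K ⟶ obj κ (one A)) ≫ _ ≫ _ = (uni κ (one A) (1 : A) : K ⟶ obj κ (one A)) ≫ 𝟙 _
    rw [← Category.assoc, h', Category.id_comp, Category.comp_id])
  inv_hom_id := by
    have h := LinearMap.congr_fun (lift_spec κ (one A)
      ((LinearMap.id : A →ₗ[A] A).smulRight (show HomFrom κ K from 𝟙 K))) (1 : A)
    simp only [LinearMap.comp_apply, LinearMap.smulRight_apply, LinearMap.id_apply, one_smul] at h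
    exact h

theorem oneIso_natural (a : A) :
    (functor κ).map (ObjectProperty.homMk (ModuleCat.ofHom (LinearMap.lsmul A A a)) : one A ⟶ one A) ≫
      (oneIso κ).hom = (oneIso κ).hom ≫ κ a := by
  refine hom_ext κ (LinearMap.ext_ring ?_)
  let g₀ : A →ₗ[A] HomFrom κ K := (LinearMap.id : A →ₗ[A] A).smulRight (show HomFrom κ K from 𝟙 K)
  have h : ∀ b : A, (uni κ (one A) b : K ⟶ obj κ (one A)) ≫ lift κ (one A) g₀ = κ b ≫ 𝟙 K := fun b =>
    LinearMap.congr_fun (lift_spec κ (one A) g₀) b
  let ga : one A ⟶ one A := ObjectProperty.homMk (ModuleCat.ofHom (LinearMap.lsmul A A a))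
  have h1 : (uni κ (one A) (1 : A) : K ⟶ obj κ (one A)) ≫ (functor κ).map ga =
      (uni κ (one A) (a • (1 : A)) : K ⟶ obj κ (one A)) :=
    LinearMap.congr_fun (map_spec κ ga) (1 : A)
  show (uni κ (one A) (1 : A) : K ⟶ obj κ (one A)) ≫ (functor κ).map ga ≫ lift κ (one A) g₀ =
    (uni κ (one A) (1 : A) : K ⟶ obj κ (one A)) ≫ lift κ (one A) g₀ ≫ κ a
  refine ((Category.assoc _ _ _).symm.trans ((congrArg (fun w => w ≫ lift κ (one A) g₀) h1).trans (h _))).trans ?_
  refine Eq.trans ?_ ((congrArg (fun w => w ≫ κ a) (h 1)).symm.trans (Category.assoc _ _ _))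
  rw [map_one, smul_eq_mul, mul_one, Category.comp_id, End.one_def, Category.comp_id, Category.id_comp]

end Groth.Agent.FPFun
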