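import Groth.Agent.FPFun.Functor

/-!
# Right exact functors on finitely presented modules are determined by their value at `A`
-/

set_option autoImplicit false

universe u v' u'

open CategoryTheory CategoryTheory.Limits

namespace Groth.Agent.FPFun

variable {A : Type u} [CommRing A] {B : Type u'} [Category.{v'} B] [Preadditive B] [HasFiniteBiproducts B]

/-- The map `a ↦ a • x`. -/
noncomputable def pt {M : FP A} (x : M.obj) : one A ⟶ M :=
  ObjectProperty.homMk (ModuleCat.ofHom ((LinearMap.id : A →ₗ[A] A).smulRight x))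

/-- Multiplication by `a`. -/
noncomputable def mulA (a : A) : one A ⟶ one A :=
  ObjectProperty.homMk (ModuleCat.ofHom (LinearMap.lsmul A A a))

theorem hom_ext' {M N : FP A} {f g : M ⟶ N} (h : ∀ x, f.hom.hom x = g.hom.hom x) : f = g :=
  ObjectProperty.hom_ext _ (ModuleCat.hom_ext (LinearMap.ext h))

theorem one_hom_ext {N : FP A} {f g : one A ⟶ N} (h : f.hom.hom (1 : A) = g.hom.hom (1 : A)) : f = g :=
  ObjectProperty.hom_ext _ (ModuleCat.hom_ext (LinearMap.ext_ring h))

theorem pt_comp {M N : FP A} (x : M.obj) (f : M ⟶ N) : pt x ≫ f = pt (f.hom.hom x) :=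
  one_hom_ext (by show f.hom.hom ((1 : A) • x) = (1 : A) • f.hom.hom x; rw [one_smul, one_smul])

theorem pt_smul {M : FP A} (a : A) (x : M.obj) : pt (a • x) = mulA a ≫ pt x :=
  one_hom_ext (by show (1 : A) • (a • x) = (a • (1 : A)) • x; rw [one_smul, smul_eq_mul, mul_one])

theorem pt_add {M : FP A} (x y : M.obj) : pt (x + y) = pt x + pt y :=
  one_hom_ext (by show (1 : A) • (x + y) = (1 : A) • x + (1 : A) • y; rw [smul_add])

theorem pt_one : pt (M := one A) (1 : A) = 𝟙 (one A) :=
  one_hom_ext (by show (1 : A) • (1 : A) = 1; rw [one_smul])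

/-- The zero module. -/
theorem hasZeroObject : HasZeroObject (FP A) := by
  refine ⟨⟨⟨ModuleCat.of A PUnit.{u + 1}, inferInstanceAs (Module.FinitePresentation A PUnit.{u + 1})⟩, ?_⟩⟩
  constructor
  · exact fun X => ⟨⟨⟨ObjectProperty.homMk (ModuleCat.ofHom (0 : PUnit.{u + 1} →ₗ[A] X.obj))⟩,
      fun f => hom_ext' fun x => by
        show f.hom.hom x = 0
        rw [show x = 0 from Subsingleton.elim (α := PUnit.{u + 1}) _ _, map_zero]⟩⟩
  · exact fun X => ⟨⟨⟨ObjectProperty.homMk (ModuleCat.ofHom (0 : X.obj →ₗ[A] PUnit.{u + 1}))⟩,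
      fun f => hom_ext' fun x => Subsingleton.elim (α := PUnit.{u + 1}) _ _⟩⟩

/-- The product bicone. -/
noncomputable def prodBicone (M N : FP A) : BinaryBicone M N :=
  haveI := M.2
  haveI := N.2
  { pt := ⟨ModuleCat.of A (M.obj × N.obj), inferInstanceAs (Module.FinitePresentation A (M.obj × N.obj))⟩
    fst := ObjectProperty.homMk (ModuleCat.ofHom (LinearMap.fst A M.obj N.obj))
    snd := ObjectProperty.homMk (ModuleCat.ofHom (LinearMap.snd A M.obj N.obj))
    inl := ObjectProperty.homMk (ModuleCat.ofHom (LinearMap.inl A M.obj N.obj))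
    inr := ObjectProperty.homMk (ModuleCat.ofHom (LinearMap.inr A M.obj N.obj))
    inl_fst := hom_ext' fun _ => rfl
    inl_snd := hom_ext' fun _ => rfl
    inr_fst := hom_ext' fun _ => rfl
    inr_snd := hom_ext' fun _ => rfl }

theorem hasBinaryBiproducts : HasBinaryBiproducts (FP A) :=
  ⟨fun M N => ⟨⟨⟨prodBicone M N, isBinaryBilimitOfTotal _ (hom_ext' fun x => by
    obtain ⟨m, n⟩ := (show M.obj × N.obj from x)
    show ((m, (0 : N.obj)) : M.obj × N.obj) + ((0 : M.obj), n) = (m, n)
    simp)⟩⟩⟩⟩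

variable (F : FP A ⥤ B) [PreservesFiniteColimits F]

theorem exists_lift {M : FP A} {Y : B} (g : M.obj → (F.obj (one A) ⟶ Y))
    (hadd : ∀ x y, g (x + y) = g x + g y) (hsmul : ∀ (a : A) x, g (a • x) = F.map (mulA a) ≫ g x)
    [F.Additive] : ∃! h : F.obj M ⟶ Y, ∀ x, F.map (pt x) ≫ h = g x := by
  classical
  haveI := M.2
  obtain ⟨n, m, f, r, hf, hex⟩ := Module.FinitePresentation.exists_fin' A M.obj
  -- free objects
  let Fr : ℕ → FP A := fun l =>
    ⟨ModuleCat.of A (Fin l → A), inferInstanceAs (Module.FinitePresentation A (Fin l → A))⟩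
  let e : ∀ (l : ℕ) (i : Fin l), one A ⟶ Fr l := fun l i => pt (M := Fr l) (Pi.single i (1 : A))
  let cf : ∀ l : ℕ, Cofan (fun _ : Fin l => one A) := fun l => Cofan.mk (Fr l) (e l)
  have hcf : ∀ l, IsColimit (cf l) := fun l =>
    mkCofanColimit _
      (fun s => ObjectProperty.homMk (ModuleCat.ofHom
        (∑ i : Fin l, (LinearMap.proj i : (Fin l → A) →ₗ[A] A).smulRight ((s.inj i).hom.hom (1 : A)))))
      (fun s j => one_hom_ext (by
        show (∑ i : Fin l, (LinearMap.proj i : (Fin l → A) →ₗ[A] A).smulRight ((s.inj i).hom.hom (1 : A)))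
          ((1 : A) • Pi.single j (1 : A)) = (s.inj j).hom.hom (1 : A)
        rw [one_smul, LinearMap.sum_apply, Finset.sum_eq_single j]
        · simp
        · intro b _ hb; simp [Pi.single_eq_of_ne hb]
        · simp))
      (fun s q hq => hom_ext' fun x => by
        show q.hom.hom (x : Fin l → A) =
          (∑ i : Fin l, (LinearMap.proj i : (Fin l → A) →ₗ[A] A).smulRight ((s.inj i).hom.hom (1 : A))) x
        rw [LinearMap.sum_apply]
        conv_lhs => rw [show (x : Fin l → A) = ∑ i, x i • (Pi.single i (1 : A) : Fin l → A) from pi_eq_sum_univ' x]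
        refine (map_sum q.hom.hom _ _).trans (Finset.sum_congr rfl fun i _ => ?_)
        refine (map_smul q.hom.hom _ _).trans ?_
        show x i • q.hom.hom (Pi.single i (1 : A)) = x i • (s.inj i).hom.hom (1 : A)
        rw [← hq i]
        show _ = x i • q.hom.hom ((1 : A) • Pi.single i (1 : A))
        rw [one_smul])
  have hext : ∀ (l : ℕ) {Z : B} (p q : F.obj (Fr l) ⟶ Z),
      (∀ i, F.map (e l i) ≫ p = F.map (e l i) ≫ q) → p = q := fun l Z p q h =>
    (isColimitCofanMkObjOfIsColimit F (fun _ : Fin l => one A) (e l) (hcf l)).hom_ext fun i => h i.as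
  let fC : Fr n ⟶ M := ObjectProperty.homMk (ModuleCat.ofHom f)
  let rC : Fr m ⟶ Fr n := ObjectProperty.homMk (ModuleCat.ofHom r)
  have hrf : rC ≫ fC = 0 := hom_ext' fun x => hex.apply_apply_eq_zero x
  have hle : ∀ {W : FP A} (q : Fr n ⟶ W), rC ≫ q = 0 → LinearMap.ker f ≤ LinearMap.ker q.hom.hom := by
    intro W q hq a ha
    obtain ⟨b, rfl⟩ := (hex a).1 ha
    exact LinearMap.congr_fun (congrArg (fun φ : Fr m ⟶ W => φ.hom.hom) hq) b
  have hsym : ∀ a, (f.quotKerEquivOfSurjective hf).symm (f a) = Submodule.Quotient.mk a := fun a => by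
    rw [LinearEquiv.symm_apply_eq]; rfl
  have hck : IsColimit (CokernelCofork.ofπ fC hrf) :=
    CokernelCofork.IsColimit.ofπ fC hrf
      (fun {W} q hq => ObjectProperty.homMk (ModuleCat.ofHom
        (((LinearMap.ker f).liftQ q.hom.hom (hle q hq)).comp (f.quotKerEquivOfSurjective hf).symm.toLinearMap)))
      (fun {W} q hq => hom_ext' fun a => by
        show ((LinearMap.ker f).liftQ q.hom.hom (hle q hq)) ((f.quotKerEquivOfSurjective hf).symm (f a)) = q.hom.hom a
        rw [hsym]
        rfl)
      (fun {W} q hq p hp => hom_ext' fun x => by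
        obtain ⟨a, rfl⟩ := hf x
        show p.hom.hom (f a) =
          ((LinearMap.ker f).liftQ q.hom.hom (hle q hq)) ((f.quotKerEquivOfSurjective hf).symm (f a))
        rw [hsym]
        exact LinearMap.congr_fun (congrArg (fun φ : Fr n ⟶ W => φ.hom.hom) hp) a)
  have hck' := isColimitCoforkMapOfIsColimit' F hrf hck
  let h₀ : F.obj (Fr n) ⟶ Y :=
    (isColimitCofanMkObjOfIsColimit F (fun _ : Fin n => one A) (e n) (hcf n)).desc
      (Cofan.mk Y fun i => g (f (Pi.single i 1)))
  have hh₀ : ∀ i, F.map (e n i) ≫ h₀ = g (f (Pi.single i 1)) := fun i =>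
    (isColimitCofanMkObjOfIsColimit F (fun _ : Fin n => one A) (e n) (hcf n)).fac _ ⟨i⟩
  let G : M.obj →+ (F.obj (one A) ⟶ Y) := AddMonoidHom.mk' g hadd
  have key : ∀ a : Fin n → A, F.map (pt (M := Fr n) a) ≫ h₀ = g (f a) := by
    intro a
    have hsum : pt (M := Fr n) a = ∑ i, mulA (a i) ≫ e n i := by
      let P : (Fr n).obj →+ (one A ⟶ Fr n) := AddMonoidHom.mk' (pt (M := Fr n)) pt_add
      show P a = _
      conv_lhs => rw [show (a : Fin n → A) = ∑ i, a i • (Pi.single i (1 : A) : Fin n → A) from pi_eq_sum_univ' a]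
      refine (map_sum P _ _).trans (Finset.sum_congr rfl fun i _ => ?_)
      exact pt_smul (M := Fr n) (a i) (Pi.single i (1 : A))
    rw [hsum, Functor.map_sum, Preadditive.sum_comp]
    conv_rhs => rw [show (a : Fin n → A) = ∑ i, a i • (Pi.single i (1 : A) : Fin n → A) from pi_eq_sum_univ' a,
      map_sum]
    show _ = G _
    rw [map_sum]
    refine Finset.sum_congr rfl fun i _ => ?_
    show _ = g (f (a i • Pi.single i (1 : A)))
    rw [Functor.map_comp, Category.assoc, hh₀, map_smul, hsmul]
  have hg0 : g 0 = 0 := G.map_zero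
  have hzero : F.map rC ≫ h₀ = 0 := by
    refine hext m _ _ fun j => ?_
    rw [comp_zero, ← Category.assoc, ← Functor.map_comp, pt_comp]
    refine (key _).trans ?_
    show g (f (r (Pi.single j (1 : A)))) = 0
    rw [hex.apply_apply_eq_zero, hg0]
  obtain ⟨h, hh⟩ := CokernelCofork.IsColimit.desc' hck' h₀ hzero
  have hh' : F.map fC ≫ h = h₀ := hh
  refine ⟨h, fun x => ?_, fun h' hh'' => ?_⟩
  · obtain ⟨a, rfl⟩ := hf x
    rw [show pt (M := M) (f a) = pt (M := Fr n) a ≫ fC from (pt_comp (M := Fr n) a fC).symm, Functor.map_comp,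
      Category.assoc, hh', key]
  · have : F.map fC ≫ h' = F.map fC ≫ h := hext n _ _ fun i => by
      rw [hh', hh₀, ← Category.assoc, ← Functor.map_comp, pt_comp]
      exact hh'' _
    exact (Cofork.IsColimit.hom_ext hck') this

theorem main (F' : FP A ⥤ B) [PreservesFiniteColimits F'] :
    (∀ t t' : F ⟶ F', t.app (one A) = t'.app (one A) → t = t') ∧
      ∀ φ : F.obj (one A) ⟶ F'.obj (one A),
        (∀ a : A, F.map (mulA a) ≫ φ = φ ≫ F'.map (mulA a)) → ∃ t : F ⟶ F', t.app (one A) = φ := by
  haveI := hasZeroObject (A := A)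
  haveI := hasBinaryBiproducts (A := A)
  haveI : PreservesBinaryBiproducts F := preservesBinaryBiproducts_of_preservesBinaryCoproducts F
  haveI : PreservesBinaryBiproducts F' := preservesBinaryBiproducts_of_preservesBinaryCoproducts F'
  haveI : F.Additive := Functor.additive_of_preservesBinaryBiproducts F
  haveI : F'.Additive := Functor.additive_of_preservesBinaryBiproducts F'
  refine ⟨fun t t' h => ?_, fun φ hφ => ?_⟩
  · ext M
    refine (exists_lift F (M := M) (fun x => F.map (pt x) ≫ t'.app M) (fun x y => ?_) (fun a x => ?_)).unique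
      (fun x => ?_) (fun x => rfl)
    · rw [pt_add, Functor.map_add, Preadditive.add_comp]
    · rw [pt_smul, Functor.map_comp, Category.assoc]
    · rw [t.naturality, t'.naturality, h]
  · have hex : ∀ M : FP A, ∃! h : F.obj M ⟶ F'.obj M, ∀ x, F.map (pt x) ≫ h = φ ≫ F'.map (pt x) := fun M =>
      exists_lift F _ (fun x y => by rw [pt_add, Functor.map_add, Preadditive.comp_add])
        (fun a x => by rw [pt_smul, Functor.map_comp, ← Category.assoc, ← hφ, Category.assoc])
    refine ⟨{ app := fun M => (hex M).choose, naturality := fun M N f => ?_ }, ?_⟩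
    · have h1 := (hex M).choose_spec.1
      have h2 := (hex N).choose_spec.1
      refine (exists_lift F (M := M) (fun x => φ ≫ F'.map (pt (f.hom.hom x))) (fun x y => ?_) (fun a x => ?_)).unique
        (fun x => ?_) (fun x => ?_)
      · rw [map_add, pt_add, Functor.map_add, Preadditive.comp_add]
      · rw [map_smul, pt_smul, Functor.map_comp, ← Category.assoc, ← hφ, Category.assoc]
      · rw [← Category.assoc, ← Functor.map_comp, pt_comp]
        exact h2 _
      · rw [← Category.assoc, h1, Category.assoc, ← Functor.map_comp, pt_comp]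
    · have h1 := (hex (one A)).choose_spec.1 (1 : A)
      rw [pt_one, CategoryTheory.Functor.map_id, Category.id_comp, CategoryTheory.Functor.map_id, Category.comp_id] at h1
      exact h1

end Groth.Agent.FPFun
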